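import Cfsg.Agent.CosetCert.Pack

/-! Generated: the facts of the log. -/

namespace Cfsg.Agent.CosetCert.Sp44.Table

def factStore : Store := (.node 1 (.leaf 0x10002100016040001e0001c020001e0001c000001e00013030001d0000d020001d0000e010001d0000d000001d0001b010001c0001c000001c0001a030001b0001104000130001a020001b00012010001a00013020001a0001302000190001001000180001503000180001503000170001404000120001100000120000e00000110000d020000600009020000f0000a010000f0000f000000f00006040000e0000d010000e0000c000000b0000b000000300003000000c0000c000000200002000000100001040000300003020000b0000b02000030000c020000100002040000200002030000b0000b03000010000c030000000000020000000000010000000000000000000000030005400052030005300051040005200049010005100047010005000042040004f0003f010004e00039030004d00038040004c00035030004b00034010004a0003401000490003301000480003204000470003103000460003001000450003004000440002f01000430002f03000420002e04000410002c01000400002c030003f0002a010003e0002a010003d00029040003c00028010003b00028030003a0002703000390002602000380002601000370002604000360002403000350002200000340002203000330002104000320002001000310002004000300001f030002f0001f010002e0001f010002d0001e030002c00019010002b00019040002a00017020002900017030002800016020002700016040002600014020002500014010002400014010002300012010002200011040002100010030002000010000001f00010030001e0000f040001d0000a030001c0000a040001b00009030001a00009040001900008020001800008000001700008040001600007020001500007000001400007030001300006030001200005020001100005010001000005040000f00004030000e00004020000d00004040000c0000b010000b0000a000000a00009010000900008030000800007010000700006040000600005000000500004010000400003030000300002010000200001040000100000)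 (.leaf 0x4000540005301000540005302000540005300000540005400000530005302000520005101000520004c00000520005200000510005104000510004800000500004704000500004203000500004302000500004e030004f0004e020004f00043010004f00044000004f0004104000430004b00000430004c000004e0003c040004e00039040004d00046010004d00046020004d00039000004d0003a030004c00047020004c00041000004800048000003b0003b000004900049000004000040010004b0003f020004b00044000004b00035030003e0004a000004a0004a040004a0004a020004a0003603000490003b02000490004003000480004002000480003b040003b00040010003c0004102000470003c02000460004200000460003303000450003600000450004504000450003d02000450003e03000440003700000440003200000420003103000410003c020003f0002f000003f0002c000003e0003e040003e0003e000003d0003d030003d0003d020003d0003d040003a00033010003a00035020003a0002800000390002801000380003604000380003700000380002700000370002b02000340003700000360003602000350003204000340002502000330003103000320002b03000310002302000300002e000003000021000002f00020000002e00023040002e00029000002d0002d040002d0002d030002d0002d020002d0002d020002c00020040002b00027020002b00022020002a0001f000002a0001903000290002500000290001801000270001b000002600016000002400024030002400024010001700017010002500025000002500015020002400024020002100023040002300018040002200015))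

end Cfsg.Agent.CosetCert.Sp44.Table
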